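import Groth.Prelude.Def_CartDual
import Mathlib

set_option linter.unusedSectionVars false
set_option linter.unusedVariables false
set_option linter.unusedSimpArgs false
set_option autoImplicit false
set_option linter.style.haveILetI false
set_option maxHeartbeats 400000

/-!
# The action of the dual on a Hopf algebra by translations (helper6)

`L x a = Σ x(a₁) a₂`.  `L (x * y) = L y ∘ L x`, `L 1 = id`, `ε ∘ L x = x`; for an algebra map `g : A → k`,
`L g` is an algebra endomorphism (translation by the point `g`).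
-/

universe u v

open TensorProduct Coalgebra

namespace Groth.Agent.Lib.Helper6.HopfFin

section Act

variable {k : Type u} [CommRing k] {A : Type v} [Ring A] [Bialgebra k A]

/-- translation action of a functional: `a ↦ Σ x(a₁) a₂`. -/
noncomputable def L (x : CartDual.D k A) : A →ₗ[k] A :=
  (TensorProduct.lid k A).toLinearMap ∘ₗ LinearMap.rTensor A x.ofConv ∘ₗ Coalgebra.comul

theorem L_apply (x : CartDual.D k A) (a : A) :
    L x a = TensorProduct.lid k A (LinearMap.rTensor A x.ofConv (Coalgebra.comul a)) := rfl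

theorem L_eq_sum (x : CartDual.D k A) (a : A) {ι : Type*} (𝓡 : Coalgebra.Repr k a ι) :
    L x a = ∑ i ∈ 𝓡.index, x (𝓡.left i) • 𝓡.right i := by
  rw [L_apply, ← 𝓡.eq, map_sum, map_sum]
  rfl

theorem counit_L (x : CartDual.D k A) (a : A) : Coalgebra.counit (R := k) (L x a) = x a := by
  rw [L_eq_sum x a (ℛ k a), map_sum]
  simp only [map_smul, smul_eq_mul]
  have h := Coalgebra.sum_tmul_counit_eq (ℛ k a)
  have h2 := congrArg (fun t => TensorProduct.lid k k (LinearMap.rTensor k x.ofConv t)) h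
  simp only [map_sum, LinearMap.rTensor_tmul, TensorProduct.lid_tmul, smul_eq_mul, mul_one] at h2
  exact h2

theorem L_one (a : A) : L (1 : CartDual.D k A) a = a := by
  rw [L_eq_sum _ a (ℛ k a)]
  have h : ∀ b : A, (1 : CartDual.D k A) b = Coalgebra.counit (R := k) b := fun b => by
    rw [LinearMap.convOne_apply]; rfl
  simp only [h]
  exact Coalgebra.sum_counit_smul (ℛ k a)

/-- auxiliary trilinear evaluation `a ⊗ (b ⊗ c) ↦ x a • y b • c`. -/
noncomputable def Θ (x y : CartDual.D k A) : A ⊗[k] (A ⊗[k] A) →ₗ[k] A :=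
  (TensorProduct.lid k A).toLinearMap ∘ₗ
    TensorProduct.map x.ofConv ((TensorProduct.lid k A).toLinearMap ∘ₗ TensorProduct.map y.ofConv LinearMap.id)

theorem Θ_tmul (x y : CartDual.D k A) (a b c : A) : Θ x y (a ⊗ₜ (b ⊗ₜ c)) = x a • y b • c := by
  simp [Θ, CartDual.coe_apply]
  exact smul_comm _ _ _

theorem dual_mul_apply (x y : CartDual.D k A) (a : A) {ι : Type*} (𝓡 : Coalgebra.Repr k a ι) :
    (x * y) a = ∑ i ∈ 𝓡.index, x (𝓡.left i) * y (𝓡.right i) := by
  rw [LinearMap.convMul_apply, ← 𝓡.eq, map_sum, map_sum]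
  rfl

theorem L_mul (x y : CartDual.D k A) (a : A) : L (x * y) a = L y (L x a) := by
  rw [L_eq_sum (x * y) a (ℛ k a), L_eq_sum x a (ℛ k a), map_sum]
  have h := Coalgebra.sum_tmul_tmul_eq (ℛ k a) (fun i => ℛ k ((ℛ k a).left i)) (fun i => ℛ k ((ℛ k a).right i))
  have h2 := congrArg (Θ x y) h
  simp only [map_sum, Θ_tmul] at h2
  have e1 : ∀ i ∈ (ℛ k a).index, (x * y) ((ℛ k a).left i) • (ℛ k a).right i =
      ∑ j ∈ (ℛ k ((ℛ k a).left i)).index,
        x ((ℛ k ((ℛ k a).left i)).left j) • y ((ℛ k ((ℛ k a).left i)).right j) • (ℛ k a).right i := by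
    intro i _
    rw [dual_mul_apply x y _ (ℛ k ((ℛ k a).left i)), Finset.sum_smul]
    refine Finset.sum_congr rfl fun j _ => ?_
    rw [mul_smul]
  have e2 : ∀ i ∈ (ℛ k a).index, L y (x ((ℛ k a).left i) • (ℛ k a).right i) =
      ∑ j ∈ (ℛ k ((ℛ k a).right i)).index,
        x ((ℛ k a).left i) • y ((ℛ k ((ℛ k a).right i)).left j) • (ℛ k ((ℛ k a).right i)).right j := by
    intro i _
    rw [map_smul, L_eq_sum y _ (ℛ k ((ℛ k a).right i)), Finset.smul_sum]
  rw [Finset.sum_congr rfl e1, Finset.sum_congr rfl e2]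
  exact h2

theorem apply_L (x y : CartDual.D k A) (a : A) : y (L x a) = (x * y) a := by
  rw [L_eq_sum x a (ℛ k a), dual_mul_apply x y a (ℛ k a), CartDual.coe_apply, map_sum]
  refine Finset.sum_congr rfl fun i _ => ?_
  rw [map_smul, smul_eq_mul]

end Act

section Point

variable {k : Type u} [CommRing k] {A : Type v} [CommRing A] [HopfAlgebra k A]

/-- an algebra map `A → k` as an element of the dual. -/
noncomputable def pt (g : A →ₐ[k] k) : CartDual.D k A := WithConv.toConv g.toLinearMap

theorem pt_apply (g : A →ₐ[k] k) (a : A) : pt g a = g a := rfl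

/-- translation by a point, as an algebra endomorphism. -/
noncomputable def Lalg (g : A →ₐ[k] k) : A →ₐ[k] A :=
  ((Algebra.TensorProduct.lid k A).toAlgHom.comp (Algebra.TensorProduct.map g (AlgHom.id k A))).comp
    (Bialgebra.comulAlgHom k A)

theorem Lalg_apply (g : A →ₐ[k] k) (a : A) : Lalg g a = L (pt g) a := by
  rw [L_apply]
  change Algebra.TensorProduct.lid k A (Algebra.TensorProduct.map g (AlgHom.id k A) (Coalgebra.comul a)) = _
  generalize (Coalgebra.comul (R := k) a) = t
  induction t using TensorProduct.induction_on with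
  | zero => simp
  | add t t' ht ht' => simp only [map_add, ht, ht']
  | tmul b c => simp [pt, CartDual.coe_apply]

/-- the inverse point `g ∘ S`. -/
noncomputable def ptInv (g : A →ₐ[k] k) : A →ₐ[k] k := g.comp (HopfAlgebra.antipodeAlgHom k A)

theorem pt_mul_ptInv (g : A →ₐ[k] k) : pt g * pt (ptInv g) = 1 := by
  apply WithConv.ofConv_injective
  apply LinearMap.ext
  intro a
  change (pt g * pt (ptInv g)) a = (1 : CartDual.D k A) a
  rw [dual_mul_apply _ _ a (ℛ k a), LinearMap.convOne_apply]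
  simp only [pt_apply, ptInv, AlgHom.comp_apply, ← map_mul, ← map_sum]
  have h := HopfAlgebra.sum_mul_antipode_eq_algebraMap_counit (ℛ k a)
  change g (∑ i ∈ (ℛ k a).index, (ℛ k a).left i * HopfAlgebra.antipode k ((ℛ k a).right i)) = _
  rw [h, AlgHom.commutes]

theorem ptInv_mul_pt (g : A →ₐ[k] k) : pt (ptInv g) * pt g = 1 := by
  apply WithConv.ofConv_injective
  apply LinearMap.ext
  intro a
  change (pt (ptInv g) * pt g) a = (1 : CartDual.D k A) a
  rw [dual_mul_apply _ _ a (ℛ k a), LinearMap.convOne_apply]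
  simp only [pt_apply, ptInv, AlgHom.comp_apply, ← map_mul, ← map_sum]
  have h := HopfAlgebra.sum_antipode_mul_eq_algebraMap_counit (ℛ k a)
  change g (∑ i ∈ (ℛ k a).index, HopfAlgebra.antipode k ((ℛ k a).left i) * (ℛ k a).right i) = _
  rw [h, AlgHom.commutes]

theorem Lalg_ptInv_Lalg (g : A →ₐ[k] k) (a : A) : Lalg (ptInv g) (Lalg g a) = a := by
  rw [Lalg_apply, Lalg_apply, ← L_mul, pt_mul_ptInv, L_one]

theorem apply_Lalg_ptInv (g : A →ₐ[k] k) (a : A) :
    g (Lalg (ptInv g) a) = Coalgebra.counit (R := k) a := by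
  rw [Lalg_apply, ← pt_apply g, apply_L, ptInv_mul_pt, LinearMap.convOne_apply]
  rfl

end Point

end Groth.Agent.Lib.Helper6.HopfFin
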