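import Groth.Agent.Lib.Helper6.HopfFin.GenMap
import Groth.Prelude.Def_AlphaP

set_option linter.unusedSectionVars false
set_option linter.unusedVariables false
set_option linter.unusedSimpArgs false
set_option autoImplicit false
set_option linter.style.haveILetI false
set_option maxHeartbeats 400000

/-!
# A nonzero primitive `y` with `y^p = 0` gives a surjection onto the Hopf algebra of α_p (helper6)
-/

universe u v w

open TensorProduct Coalgebra

namespace Groth.Agent.Lib.Helper6.HopfFin

section DS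

theorem sum_antidiagonal_range {M : Type*} [AddCommMonoid M] (p : ℕ) (F : ℕ → ℕ → M)
    (hF : ∀ j l, p ≤ j + l → F j l = 0) :
    ∑ n ∈ Finset.range p, ∑ m ∈ Finset.HasAntidiagonal.antidiagonal n, F m.1 m.2 =
      ∑ j ∈ Finset.range p, ∑ l ∈ Finset.range p, F j l := by
  simp_rw [Finset.Nat.sum_antidiagonal_eq_sum_range_succ (fun j l => F j l)]
  rw [Finset.sum_range_diag_flip]
  refine Finset.sum_congr rfl fun j hj => ?_
  apply Finset.sum_subset (Finset.range_subset_range.2 (Nat.sub_le p j))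
  intro l hl hl'
  apply hF
  rw [Finset.mem_range] at hl hl'
  omega

end DS

section Alpha

variable {k : Type u} [Field k] (p : ℕ) [hp : Fact p.Prime] [CharP k p]
  {A : Type v} [CommRing A] [HopfAlgebra k A] [Module.Finite k A]
  (y : CartDual.D k A)

theorem factorial_ne_zero' (n : ℕ) (hn : n < p) : ((n.factorial : ℕ) : k) ≠ 0 := by
  rw [Ne, CharP.cast_eq_zero_iff k p, hp.out.dvd_factorial]
  omega

/-- divided powers of `y` -/
noncomputable def γ (n : ℕ) : CartDual.D k A := ((n.factorial : ℕ) : k)⁻¹ • y ^ n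

theorem γ_apply (n : ℕ) (a : A) : γ y n a = ((n.factorial : ℕ) : k)⁻¹ * (y ^ n) a := rfl

theorem γ_zero : γ y 0 = 1 := by
  unfold γ
  simp

theorem γ_one : γ y 1 = y := by
  unfold γ
  simp

include hp in
theorem γ_mul_apply (hy : IsPrim y) (n : ℕ) (hn : n < p) (a b : A) :
    γ y n (a * b) = ∑ m ∈ Finset.HasAntidiagonal.antidiagonal n, γ y m.1 a * γ y m.2 b := by
  rw [γ_apply, pow_apply_mul hy n a b, Finset.mul_sum]
  refine Finset.sum_congr rfl fun m hm => ?_
  rw [Finset.HasAntidiagonal.mem_antidiagonal] at hm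
  rw [γ_apply, γ_apply]
  have h1 : ((n.choose m.1 : ℕ) : k) * ((m.1.factorial : ℕ) : k) * ((m.2.factorial : ℕ) : k) =
      ((n.factorial : ℕ) : k) := by
    rw [← hm, Nat.choose_symm_add]
    exact_mod_cast congrArg (Nat.cast (R := k)) (Nat.add_choose_mul_factorial_mul_factorial m.1 m.2)
  have hn0 := factorial_ne_zero' (k := k) p n hn
  have h10 := factorial_ne_zero' (k := k) p m.1 (by omega)
  have h20 := factorial_ne_zero' (k := k) p m.2 (by omega)
  field_simp
  rw [← h1]
  ring

/-- the map to α_p as a linear map -/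
noncomputable def fα : A →ₗ[k] AlphaP.A p k :=
  gmap (Finset.range p) (γ y) (fun n => AlphaP.x p k ^ n)

theorem fα_apply (a : A) : fα p y a = ∑ n ∈ Finset.range p, γ y n a • AlphaP.x p k ^ n :=
  gmap_apply _ _ _ a

include hp in
theorem fα_mul (hy : IsPrim y) (a b : A) : fα p y (a * b) = fα p y a * fα p y b := by
  rw [fα_apply, fα_apply, fα_apply, Finset.sum_mul_sum]
  have h1 : ∀ n ∈ Finset.range p, γ y n (a * b) • AlphaP.x p k ^ n =
      ∑ m ∈ Finset.HasAntidiagonal.antidiagonal n,
        (fun j l => (γ y j a * γ y l b) • AlphaP.x p k ^ (j + l)) m.1 m.2 := by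
    intro n hn
    rw [γ_mul_apply p y hy n (Finset.mem_range.1 hn) a b, Finset.sum_smul]
    refine Finset.sum_congr rfl fun m hm => ?_
    rw [Finset.HasAntidiagonal.mem_antidiagonal] at hm
    simp only [hm]
  refine (Finset.sum_congr rfl h1).trans ((sum_antidiagonal_range p
    (fun j l => (γ y j a * γ y l b) • AlphaP.x p k ^ (j + l)) ?_).trans ?_)
  · intro j l hjl
    rw [AlphaP.x_pow_of_le p k hjl, smul_zero]
  · refine Finset.sum_congr rfl fun j _ => Finset.sum_congr rfl fun l _ => ?_
    rw [smul_mul_smul_comm, pow_add]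

theorem dual_pow_apply_one' (x : CartDual.D k A) (n : ℕ) : (x ^ n) 1 = (x 1) ^ n := by
  induction n with
  | zero =>
    rw [pow_zero, pow_zero]
    exact CartDual.counit_one' k A
  | succ n ih =>
    rw [pow_succ, pow_succ, ← ih]
    exact CartDual.counit_mul' k A (x ^ n) x

include hp in
theorem fα_one (hy : IsPrim y) : fα p y 1 = 1 := by
  rw [fα_apply, Finset.sum_eq_single 0]
  · rw [γ_zero, dual_one_apply, pow_zero]
    have : Coalgebra.counit (R := k) (1 : A) = 1 := Bialgebra.counit_one
    rw [this, one_smul]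
  · intro n _ hn
    rw [γ_apply, dual_pow_apply_one', hy.apply_one, zero_pow hn, mul_zero, zero_smul]
  · intro h
    exact absurd (Finset.mem_range.2 hp.out.pos) h

/-- the map to α_p as an algebra map -/
noncomputable def fαAlg (hy : IsPrim y) : A →ₐ[k] AlphaP.A p k :=
  AlgHom.ofLinearMap (fα p y) (fα_one p y hy) (fα_mul p y hy)

theorem fαAlg_apply (hy : IsPrim y) (a : A) : fαAlg p y hy a = fα p y a := rfl

include hp in
theorem counit_fα (a : A) : Coalgebra.counit (R := k) (fα p y a) = Coalgebra.counit (R := k) a := by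
  rw [fα_apply, map_sum, Finset.sum_eq_single 0]
  · rw [γ_zero, dual_one_apply, pow_zero, map_smul]
    have : Coalgebra.counit (R := k) (1 : AlphaP.A p k) = 1 := Bialgebra.counit_one
    rw [this, smul_eq_mul, mul_one]
  · intro n _ hn
    rw [map_smul, Bialgebra.counit_pow, AlphaP.counit_x, zero_pow hn, smul_zero]
  · intro h
    exact absurd (Finset.mem_range.2 hp.out.pos) h

theorem γ_mul_γ (hyp : y ^ p = 0) (j l : ℕ) :
    γ y j * γ y l = if j + l < p then (((j + l).choose j : ℕ) : k) • γ y (j + l) else 0 := by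
  unfold γ
  rw [smul_mul_smul_comm, ← pow_add]
  split_ifs with h
  · rw [smul_smul]
    congr 1
    have h1 : (((j + l).choose j : ℕ) : k) * ((j.factorial : ℕ) : k) * ((l.factorial : ℕ) : k) =
        (((j + l).factorial : ℕ) : k) := by
      rw [Nat.choose_symm_add]
      exact_mod_cast congrArg (Nat.cast (R := k)) (Nat.add_choose_mul_factorial_mul_factorial j l)
    have hn0 := factorial_ne_zero' (k := k) p (j + l) h
    have h10 := factorial_ne_zero' (k := k) p j (by omega)
    have h20 := factorial_ne_zero' (k := k) p l (by omega)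
    field_simp
    rw [← h1]
    ring
  · obtain ⟨d, hd⟩ := Nat.exists_eq_add_of_le (not_lt.1 h)
    rw [hd, pow_add, hyp, zero_mul, smul_zero]

theorem comul_x_pow (n : ℕ) :
    Coalgebra.comul (R := k) (AlphaP.x p k ^ n) =
      ∑ m ∈ Finset.HasAntidiagonal.antidiagonal n,
        ((n.choose m.1 : ℕ) : k) • ((AlphaP.x p k ^ m.1) ⊗ₜ[k] (AlphaP.x p k ^ m.2)) := by
  rw [Bialgebra.comul_pow, AlphaP.comul_x, (Commute.all _ _).add_pow']
  refine Finset.sum_congr rfl fun m _ => ?_
  rw [Algebra.TensorProduct.tmul_pow, Algebra.TensorProduct.tmul_pow, one_pow, one_pow,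
    Algebra.TensorProduct.tmul_mul_tmul, one_mul, mul_one, Nat.cast_smul_eq_nsmul]

include hp in
theorem comul_fα (hyp : y ^ p = 0) (a : A) :
    Coalgebra.comul (R := k) (fα p y a) =
      TensorProduct.map (fα p y) (fα p y) (Coalgebra.comul (R := k) a) := by
  unfold fα
  rw [map_gmap_comul, gmap_apply, map_sum]
  have h1 : ∀ n ∈ Finset.range p, Coalgebra.comul (R := k) (γ y n a • AlphaP.x p k ^ n) =
      ∑ m ∈ Finset.HasAntidiagonal.antidiagonal n,
        (fun j l => (γ y j * γ y l) a • ((AlphaP.x p k ^ j) ⊗ₜ[k] (AlphaP.x p k ^ l))) m.1 m.2 := by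
    intro n hn
    rw [map_smul, comul_x_pow, Finset.smul_sum]
    refine Finset.sum_congr rfl fun m hm => ?_
    rw [Finset.HasAntidiagonal.mem_antidiagonal] at hm
    simp only
    rw [γ_mul_γ p y hyp, if_pos (by rw [hm]; exact Finset.mem_range.1 hn), smul_smul, hm]
    congr 1
    rw [mul_comm]
    rfl
  refine (Finset.sum_congr rfl h1).trans (sum_antidiagonal_range p
    (fun j l => (γ y j * γ y l) a • ((AlphaP.x p k ^ j) ⊗ₜ[k] (AlphaP.x p k ^ l))) ?_)
  intro j l hjl
  rw [γ_mul_γ p y hyp, if_neg (by omega)]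
  exact zero_smul _ _

/-- the bialgebra map to α_p -/
noncomputable def fαBi (hy : IsPrim y) (hyp : y ^ p = 0) : A →ₐc[k] AlphaP.A p k :=
  BialgHom.ofAlgHom (fαAlg p y hy)
    (AlgHom.ext fun a => counit_fα p y a)
    (AlgHom.ext fun a => (comul_fα p y hyp a).symm)

theorem fαBi_apply (hy : IsPrim y) (hyp : y ^ p = 0) (a : A) : fαBi p y hy hyp a = fα p y a := rfl

end Alpha

section Gen

variable (k : Type u) [Field k] (p : ℕ)

theorem alphaP_decomp (w : AlphaP.A p k) :
    ∃ (c : k) (w' : AlphaP.A p k), w = algebraMap k _ c + AlphaP.x p k * w' := by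
  obtain ⟨q, rfl⟩ := AlphaP.mk_surjective p k w
  refine ⟨q.coeff 0, AlphaP.mk p k q.divX, ?_⟩
  conv_lhs => rw [← Polynomial.divX_mul_X_add q]
  rw [map_add, map_mul, AlphaP.mk_X, mul_comm, add_comm]
  congr 1

theorem subalgebra_eq_top (B : Subalgebra k (AlphaP.A p k)) (w : AlphaP.A p k)
    (hz : AlphaP.x p k + AlphaP.x p k ^ 2 * w ∈ B) : B = ⊤ := by
  set x := AlphaP.x p k with hx
  set z := x + x ^ 2 * w with hzdef
  have claim1 : ∀ n : ℕ, ∃ w' : AlphaP.A p k, z ^ n = x ^ n + x ^ (n + 1) * w' := by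
    intro n
    induction n with
    | zero => exact ⟨0, by simp⟩
    | succ n ih =>
      obtain ⟨w', hw'⟩ := ih
      refine ⟨w + w' + x * w' * w, ?_⟩
      rw [pow_succ, hw', hzdef]
      ring
  have claim2 : ∀ d n : ℕ, 1 ≤ n → p ≤ n + d → ∀ w : AlphaP.A p k, x ^ n * w ∈ B := by
    intro d
    induction d with
    | zero =>
      intro n _ hn w
      rw [hx, AlphaP.x_pow_of_le p k (by omega), zero_mul]
      exact B.zero_mem
    | succ d ih =>
      intro n hn1 hn w
      have ih' := ih (n + 1) (by omega) (by omega)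
      obtain ⟨c, w'', rfl⟩ := alphaP_decomp k p w
      obtain ⟨w', hw'⟩ := claim1 n
      have h1 : x ^ n = z ^ n - x ^ (n + 1) * w' := by rw [hw']; ring
      have h2 : x ^ n ∈ B := by
        rw [h1]
        exact B.sub_mem (B.pow_mem hz n) (ih' w')
      have h3 : x ^ n * (algebraMap k _ c + x * w'') = c • x ^ n + x ^ (n + 1) * w'' := by
        rw [Algebra.smul_def]; ring
      rw [h3]
      exact B.add_mem (B.smul_mem h2 c) (ih' w'')
  have hxB : x ∈ B := by
    have := claim2 p 1 le_rfl (by omega) 1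
    rwa [pow_one, mul_one] at this
  rw [eq_top_iff]
  intro v _
  obtain ⟨q, rfl⟩ := AlphaP.mk_surjective p k v
  rw [← AlphaP.aeval_x]
  exact (Algebra.adjoin_le (Set.singleton_subset_iff.2 hxB)) (Polynomial.aeval_mem_adjoin_singleton k _)

end Gen

section Surj

variable {k : Type u} [Field k] (p : ℕ) [hp : Fact p.Prime] [CharP k p]
  {A : Type v} [CommRing A] [HopfAlgebra k A] [Module.Finite k A]
  (y : CartDual.D k A)

include hp in
theorem fαBi_surjective (hy : IsPrim y) (hyp : y ^ p = 0) (hy0 : y ≠ 0) :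
    Function.Surjective (fαBi p y hy hyp) := by
  have hex : ∃ a₀ : A, y a₀ ≠ 0 := by
    by_contra h
    push Not at h
    apply hy0
    apply WithConv.ofConv_injective
    apply LinearMap.ext
    intro a
    exact h a
  obtain ⟨a₀, ha₀⟩ := hex
  set a : A := (y a₀)⁻¹ • (a₀ - algebraMap k A (Coalgebra.counit (R := k) a₀)) with ha
  have hεa : Coalgebra.counit (R := k) a = 0 := by
    rw [ha, map_smul, map_sub]
    have : Coalgebra.counit (R := k) (algebraMap k A (Coalgebra.counit (R := k) a₀)) =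
        Coalgebra.counit (R := k) a₀ := by
      rw [Algebra.algebraMap_eq_smul_one, map_smul, Bialgebra.counit_one, smul_eq_mul, mul_one]
    rw [this, sub_self, smul_zero]
  have hya : y a = 1 := by
    rw [ha, CartDual.coe_apply, map_smul, map_sub, Algebra.algebraMap_eq_smul_one, map_smul]
    rw [← CartDual.coe_apply, ← CartDual.coe_apply, hy.apply_one, smul_zero, sub_zero, smul_eq_mul]
    exact inv_mul_cancel₀ ha₀
  obtain ⟨p'', hp''⟩ := Nat.exists_eq_add_of_le hp.out.two_le
  have hfa : fα p y a = AlphaP.x p k + AlphaP.x p k ^ 2 *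
      (∑ i ∈ Finset.range p'', γ y (i + 2) a • AlphaP.x p k ^ i) := by
    rw [fα_apply]
    have hp2 : Finset.range p = Finset.range (p'' + 1 + 1) := by
      congr 1; omega
    rw [hp2, Finset.sum_range_succ', Finset.sum_range_succ']
    rw [γ_zero, dual_one_apply, hεa, zero_smul, add_zero, γ_one, hya, one_smul, pow_one,
      Finset.mul_sum, add_comm]
    congr 1
    refine Finset.sum_congr rfl fun i _ => ?_
    rw [mul_smul_comm, ← pow_add, add_comm 2 i]
  have hmem : AlphaP.x p k + AlphaP.x p k ^ 2 *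
      (∑ i ∈ Finset.range p'', γ y (i + 2) a • AlphaP.x p k ^ i) ∈ (fαAlg p y hy).range := by
    rw [← hfa]
    exact ⟨a, rfl⟩
  have hB := subalgebra_eq_top k p (fαAlg p y hy).range _ hmem
  intro v
  have : v ∈ (fαAlg p y hy).range := by rw [hB]; trivial
  obtain ⟨b, hb⟩ := this
  exact ⟨b, hb⟩

end Surj

end Groth.Agent.Lib.Helper6.HopfFin
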