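import Mathlib

set_option linter.unusedSectionVars false
set_option linter.unusedVariables false
set_option linter.unusedSimpArgs false
set_option autoImplicit false
set_option linter.style.haveILetI false
set_option maxHeartbeats 400000

/-!
# Fixed or nilpotent vectors of the `p`-power map on `span {x^(p^i)}` (helper6)

In a finite-dimensional algebra `D` over an algebraically closed field of characteristic `p`, for every
`x ≠ 0` some nonzero `v = Σ a_i x^(p^i)` satisfies `v^p = 0` or `v^p = v`.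
-/

universe u v

open Polynomial

namespace Groth.Agent.Lib.Helper6.HopfFin.Fixed

section Frob

variable {k : Type u} [Field k] (p : ℕ) [hp : Fact p.Prime] [CharP k p]
  {D : Type v} [Ring D] [Algebra k D]

/-- additive combination `Σ_{i<m} a_i x^(p^i)` -/
noncomputable def comb (x : D) (m : ℕ) (a : ℕ → k) : D := ∑ i ∈ Finset.range m, a i • x ^ p ^ i

/-- the corresponding additive polynomial -/
noncomputable def combPoly (m : ℕ) (a : ℕ → k) : k[X] := ∑ i ∈ Finset.range m, C (a i) * X ^ p ^ i

theorem aeval_combPoly (x : D) (m : ℕ) (a : ℕ → k) : aeval x (combPoly p m a) = comb p x m a := by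
  unfold combPoly comb
  rw [map_sum]
  refine Finset.sum_congr rfl fun i _ => ?_
  rw [map_mul, aeval_C, map_pow, aeval_X, Algebra.smul_def]

theorem combPoly_pow (m : ℕ) (a : ℕ → k) :
    combPoly p m a ^ p = ∑ i ∈ Finset.range m, C (a i ^ p) * X ^ p ^ (i + 1) := by
  unfold combPoly
  rw [sum_pow_char]
  refine Finset.sum_congr rfl fun i _ => ?_
  rw [mul_pow, ← C_pow, ← pow_mul, ← pow_succ]

theorem comb_pow (x : D) (m : ℕ) (a : ℕ → k) :
    comb p x m a ^ p = ∑ i ∈ Finset.range m, (a i ^ p) • x ^ p ^ (i + 1) := by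
  rw [← aeval_combPoly, ← map_pow, combPoly_pow, map_sum]
  refine Finset.sum_congr rfl fun i _ => ?_
  rw [map_mul, aeval_C, aeval_X_pow, Algebra.smul_def]

end Frob

section Root

variable {k : Type u} [Field k] (p : ℕ) [hp : Fact p.Prime]

/-- auxiliary polynomials: `a_i(t) = t^p * H_i(t)` solves the recursion `a_{i+1} = a_i^p + c_{i+1} t^p`. -/
noncomputable def Hpoly (c : ℕ → k) : ℕ → k[X]
  | 0 => C (c 0)
  | (i + 1) => X ^ (p * (p - 1)) * (Hpoly c i) ^ p + C (c (i + 1))

theorem Hpoly_zero (c : ℕ → k) : Hpoly p c 0 = C (c 0) := rfl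

theorem Hpoly_succ (c : ℕ → k) (i : ℕ) :
    Hpoly p c (i + 1) = X ^ (p * (p - 1)) * (Hpoly p c i) ^ p + C (c (i + 1)) := rfl

theorem pp_pos : 0 < p * (p - 1) :=
  Nat.mul_pos hp.out.pos (Nat.sub_pos_of_lt hp.out.one_lt)

theorem Hpoly_eq_zero (c : ℕ → k) (i : ℕ) (h : Hpoly p c i = 0) : ∀ j ≤ i, c j = 0 := by
  induction i with
  | zero =>
    intro j hj
    obtain rfl : j = 0 := Nat.le_zero.1 hj
    rw [Hpoly_zero] at h
    exact C_eq_zero.1 h
  | succ i ih =>
    rw [Hpoly_succ] at h
    have h0 := congrArg (fun q : k[X] => q.coeff 0) h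
    simp only [coeff_add, coeff_C_zero, coeff_zero] at h0
    rw [coeff_X_pow_mul', if_neg (by have := pp_pos p; omega), zero_add] at h0
    rw [h0, C_0, add_zero] at h
    have h1 : Hpoly p c i = 0 := by
      rcases mul_eq_zero.1 h with h2 | h2
      · exact absurd h2 (pow_ne_zero _ X_ne_zero)
      · exact pow_eq_zero_iff (hp.out.ne_zero) |>.1 h2
    intro j hj
    rcases Nat.lt_or_ge j (i + 1) with hlt | hge
    · exact ih h1 j (Nat.lt_succ_iff.1 hlt)
    · obtain rfl : j = i + 1 := le_antisymm hj hge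
      exact h0

variable [IsAlgClosed k]

theorem exists_root (c : ℕ → k) (m' : ℕ) (hc : ∃ j ≤ m', c j ≠ 0) :
    ∃ t : k, t ≠ 0 ∧ t ^ (p - 1) * eval t (Hpoly p c m') = 1 := by
  have hH : Hpoly p c m' ≠ 0 := by
    intro h
    obtain ⟨j, hj, hcj⟩ := hc
    exact hcj (Hpoly_eq_zero p c m' h j hj)
  set q : k[X] := X ^ (p - 1) * Hpoly p c m' with hq
  have hq0 : q ≠ 0 := mul_ne_zero (pow_ne_zero _ X_ne_zero) hH
  have hdeg : 0 < q.degree := by
    rw [hq, degree_mul, degree_X_pow]
    have h1 : (0 : WithBot ℕ) ≤ (Hpoly p c m').degree := zero_le_degree_iff.2 hH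
    have h2 : (0 : WithBot ℕ) < ((p - 1 : ℕ) : WithBot ℕ) := by
      exact_mod_cast Nat.sub_pos_of_lt hp.out.one_lt
    calc (0 : WithBot ℕ) < ((p - 1 : ℕ) : WithBot ℕ) := h2
      _ = ((p - 1 : ℕ) : WithBot ℕ) + 0 := (add_zero _).symm
      _ ≤ ((p - 1 : ℕ) : WithBot ℕ) + (Hpoly p c m').degree := by gcongr
  have hdeg2 : (q - C 1).degree ≠ 0 := by
    rw [degree_sub_C hdeg]
    exact hdeg.ne'
  obtain ⟨t, ht⟩ := IsAlgClosed.exists_root (q - C 1) hdeg2
  rw [IsRoot.def, eval_sub, eval_C, hq, eval_mul, eval_pow, eval_X, sub_eq_zero] at ht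
  refine ⟨t, ?_, ht⟩
  intro h0
  rw [h0, zero_pow (Nat.sub_pos_of_lt hp.out.one_lt).ne', zero_mul] at ht
  exact zero_ne_one ht

/-- the coefficients `a_i` -/
noncomputable def acoef (c : ℕ → k) (t : k) (i : ℕ) : k := t ^ p * eval t (Hpoly p c i)

theorem acoef_zero (c : ℕ → k) (t : k) : acoef p c t 0 = c 0 * t ^ p := by
  rw [acoef, Hpoly_zero, eval_C, mul_comm]

theorem acoef_succ (c : ℕ → k) (t : k) (i : ℕ) :
    acoef p c t (i + 1) = (acoef p c t i) ^ p + c (i + 1) * t ^ p := by
  rw [acoef, acoef, Hpoly_succ, eval_add, eval_mul, eval_pow, eval_pow, eval_X, eval_C, mul_pow]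
  have h1 : t ^ p * t ^ (p * (p - 1)) = (t ^ p) ^ p := by
    rw [← pow_mul, ← pow_add]
    congr 1
    have := hp.out.one_lt
    rcases Nat.exists_eq_add_of_le this.le with ⟨d, hd⟩
    rw [hd]
    simp only [Nat.add_sub_cancel_left]
    ring
  rw [mul_add, ← mul_assoc, h1]
  ring

theorem acoef_last (c : ℕ → k) (t : k) (m' : ℕ) (ht : t ^ (p - 1) * eval t (Hpoly p c m') = 1) :
    acoef p c t m' = t := by
  rw [acoef]
  have h1 : t ^ p = t * t ^ (p - 1) := by
    rw [← pow_succ']
    congr 1
    have := hp.out.pos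
    omega
  rw [h1, mul_assoc, ht, mul_one]

end Root

section Main

variable {k : Type u} [Field k] [IsAlgClosed k] (p : ℕ) [hp : Fact p.Prime] [CharP k p]
  {D : Type v} [Ring D] [Algebra k D] [Module.Finite k D]

theorem pow_pow_succ (x : D) (i : ℕ) : (x ^ p ^ i) ^ p = x ^ p ^ (i + 1) := by
  rw [← pow_mul, ← pow_succ]

theorem exists_comb (x : D) (hx : x ≠ 0) :
    ∃ (m : ℕ) (a : ℕ → k), comb p x m a ≠ 0 ∧
      (comb p x m a ^ p = 0 ∨ comb p x m a ^ p = comb p x m a) := by
  classical
  set Xs : ℕ → D := fun i => x ^ p ^ i with hXs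
  have hex : ∃ N, ¬ LinearIndependent k (fun i : Fin N => Xs i) := by
    refine ⟨Module.finrank k D + 1, fun h => ?_⟩
    have := h.fintype_card_le_finrank
    rw [Fintype.card_fin] at this
    omega
  have hN0 : Nat.find hex ≠ 0 := by
    intro h0
    have h1 := Nat.find_spec hex
    rw [h0] at h1
    exact h1 linearIndependent_empty_type
  obtain ⟨m, hm⟩ := Nat.exists_eq_succ_of_ne_zero hN0
  have hmin : LinearIndependent k (fun i : Fin m => Xs i) := by
    have := Nat.find_min hex (m := m) (by omega)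
    exact not_not.1 this
  have hdep : ¬ LinearIndependent k (fun i : Fin (m + 1) => Xs i) := by
    have := Nat.find_spec hex
    rwa [hm] at this
  have hsnoc : (fun i : Fin (m + 1) => Xs i) = Fin.snoc (fun i : Fin m => Xs i) (Xs m) := by
    funext i
    refine Fin.lastCases ?_ (fun j => ?_) i
    · simp
    · simp
  rw [hsnoc, linearIndependent_finSnoc] at hdep
  have hmem : Xs m ∈ Submodule.span k (Set.range fun i : Fin m => Xs i) := by
    by_contra h
    exact hdep ⟨hmin, h⟩
  obtain ⟨c, hc⟩ := (Submodule.mem_span_range_iff_exists_fun k).1 hmem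
  set c' : ℕ → k := fun i => if h : i < m then c ⟨i, h⟩ else 0 with hc'
  have hsum : ∑ i ∈ Finset.range m, c' i • Xs i = Xs m := by
    rw [Finset.sum_range, ← hc]
    refine Finset.sum_congr rfl fun i _ => ?_
    simp only [hc', dif_pos i.isLt]
  have hm0 : m ≠ 0 := by
    intro h0
    rw [h0, Finset.range_zero, Finset.sum_empty] at hsum
    apply hx
    have h1 : Xs 0 = x := by simp [hXs]
    rw [← h1, ← hsum]
  obtain ⟨m', rfl⟩ := Nat.exists_eq_succ_of_ne_zero hm0
  by_cases hall : ∀ j ≤ m', c' j = 0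
  · -- nilpotent case
    have hXm : Xs (m' + 1) = 0 := by
      rw [← hsum]
      refine Finset.sum_eq_zero fun i hi => ?_
      rw [hall i (Nat.lt_succ_iff.1 (Finset.mem_range.1 hi)), zero_smul]
    refine ⟨m' + 1, fun i => if i = m' then 1 else 0, ?_, Or.inl ?_⟩
    · have h1 : comb p x (m' + 1) (fun i => if i = m' then (1 : k) else 0) = Xs m' := by
        unfold comb
        rw [Finset.sum_eq_single m']
        · simp [hXs]
        · intro j _ hj; simp [hj]
        · intro h; exact absurd (Finset.mem_range.2 (Nat.lt_succ_self m')) h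
      rw [h1]
      exact hmin.ne_zero ⟨m', Nat.lt_succ_self m'⟩
    · have h1 : comb p x (m' + 1) (fun i => if i = m' then (1 : k) else 0) = Xs m' := by
        unfold comb
        rw [Finset.sum_eq_single m']
        · simp [hXs]
        · intro j _ hj; simp [hj]
        · intro h; exact absurd (Finset.mem_range.2 (Nat.lt_succ_self m')) h
      rw [h1]
      change (x ^ p ^ m') ^ p = 0
      rw [pow_pow_succ]
      exact hXm
  · -- fixed case
    push Not at hall
    obtain ⟨t, ht0, ht⟩ := exists_root p c' m' hall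
    set a := acoef p c' t with ha
    have halast : a m' = t := acoef_last p c' t m' ht
    refine ⟨m' + 1, a, ?_, Or.inr ?_⟩
    · intro h0
      unfold comb at h0
      rw [Finset.sum_range] at h0
      have h1 := (Fintype.linearIndependent_iff.1 hmin) (fun i : Fin (m' + 1) => a i) h0 ⟨m', Nat.lt_succ_self m'⟩
      change a m' = 0 at h1
      rw [halast] at h1
      exact ht0 h1
    · rw [comb_pow]
      unfold comb
      rw [Finset.sum_range_succ, halast]
      have e1 : x ^ p ^ (m' + 1) = ∑ i ∈ Finset.range (m' + 1), c' i • Xs i := hsum.symm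
      rw [e1, Finset.sum_range_succ' (fun i => c' i • Xs i), Finset.sum_range_succ' (fun i => a i • x ^ p ^ i)]
      have e2 : a 0 = c' 0 * t ^ p := acoef_zero p c' t
      have e3 : ∀ i, a (i + 1) = a i ^ p + c' (i + 1) * t ^ p := acoef_succ p c' t
      simp only [e2, e3, add_smul, Finset.sum_add_distrib, smul_add, Finset.smul_sum, smul_smul, hXs]
      simp only [mul_comm (t ^ p)]
      abel

end Main

end Groth.Agent.Lib.Helper6.HopfFin.Fixed
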