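import Groth.Agent.Lib.Helper6.HopfFin.Prim

set_option linter.unusedSectionVars false
set_option linter.unusedVariables false
set_option linter.unusedSimpArgs false
set_option autoImplicit false
set_option linter.style.haveILetI false
set_option maxHeartbeats 400000

/-!
# Linear maps `a ↦ Σ d_i(a) t_i` out of a Hopf algebra, from a family of functionals (helper6)
-/

universe u v w

open TensorProduct Coalgebra

namespace Groth.Agent.Lib.Helper6.HopfFin

section GenMap

variable {k : Type u} [CommRing k] {A : Type v} [Ring A] [Bialgebra k A]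
  {T : Type w} [AddCommGroup T] [Module k T] {ι : Type*} (s : Finset ι)
  (d : ι → CartDual.D k A) (t : ι → T)

/-- the linear map `a ↦ Σ_{i ∈ s} d_i(a) • t_i`. -/
noncomputable def gmap : A →ₗ[k] T := ∑ i ∈ s, LinearMap.smulRight (d i).ofConv (t i)

theorem gmap_apply (a : A) : gmap s d t a = ∑ i ∈ s, d i a • t i := by
  unfold gmap
  rw [LinearMap.sum_apply]
  rfl

theorem map_gmap_comul (a : A) :
    TensorProduct.map (gmap s d t) (gmap s d t) (Coalgebra.comul (R := k) a) =
      ∑ j ∈ s, ∑ l ∈ s, (d j * d l) a • (t j ⊗ₜ[k] t l) := by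
  rw [← (ℛ k a).eq, map_sum]
  have h1 : ∀ i ∈ (ℛ k a).index, TensorProduct.map (gmap s d t) (gmap s d t)
      ((ℛ k a).left i ⊗ₜ[k] (ℛ k a).right i) =
      ∑ j ∈ s, ∑ l ∈ s, (d j ((ℛ k a).left i) * d l ((ℛ k a).right i)) • (t j ⊗ₜ[k] t l) := by
    intro i _
    rw [TensorProduct.map_tmul, gmap_apply, gmap_apply, TensorProduct.sum_tmul]
    refine Finset.sum_congr rfl fun j _ => ?_
    rw [TensorProduct.tmul_sum]
    refine Finset.sum_congr rfl fun l _ => ?_
    rw [TensorProduct.smul_tmul_smul]
  rw [Finset.sum_congr rfl h1, Finset.sum_comm]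
  refine Finset.sum_congr rfl fun j _ => ?_
  rw [Finset.sum_comm]
  refine Finset.sum_congr rfl fun l _ => ?_
  rw [dual_mul_apply (d j) (d l) a (ℛ k a), Finset.sum_smul]

end GenMap

end Groth.Agent.Lib.Helper6.HopfFin
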