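import Mathlib

set_option linter.unusedSectionVars false
set_option linter.unusedVariables false
set_option linter.unusedSimpArgs false
set_option autoImplicit false
set_option linter.style.haveILetI false
set_option maxHeartbeats 400000

/-!
# The spectral idempotents `1 - (Y - i)^(p-1)`, `i ∈ 𝔽_p`, of an element with `Y^p = Y` (helper6)
-/

universe u v

open Polynomial

namespace Groth.Agent.Lib.Helper6.HopfFin.Mu

section Poly

variable (k : Type u) [Field k] (p : ℕ) [hp : Fact p.Prime] [CharP k p]

/-- the embedding `𝔽_p → k` -/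
noncomputable def ι : ZMod p →+* k := ZMod.castHom (dvd_refl p) k

theorem ι_injective : Function.Injective (ι k p) := (ι k p).injective

/-- the polynomial `1 - (X - i)^(p-1)` -/
noncomputable def ePoly (i : ZMod p) : k[X] := 1 - (X - C (ι k p i)) ^ (p - 1)

theorem eval_ePoly (i j : ZMod p) : eval (ι k p j) (ePoly k p i) = if j = i then 1 else 0 := by
  unfold ePoly
  rw [eval_sub, eval_one, eval_pow, eval_sub, eval_X, eval_C, ← map_sub, ← map_pow]
  split_ifs with h
  · rw [h, sub_self, zero_pow (Nat.sub_pos_of_lt hp.out.one_lt).ne', map_zero, sub_zero]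
  · rw [ZMod.pow_card_sub_one_eq_one (sub_ne_zero.2 h), map_one, sub_self]

theorem natDegree_ePoly_le (i : ZMod p) : (ePoly k p i).natDegree ≤ p - 1 := by
  unfold ePoly
  refine (natDegree_sub_le _ _).trans (max_le (by simp) ?_)
  refine natDegree_pow_le.trans ?_
  rw [natDegree_X_sub_C, mul_one]

theorem sum_ePoly : ∑ i : ZMod p, ePoly k p i = 1 := by
  haveI : NeZero p := ⟨hp.out.ne_zero⟩
  apply eq_of_natDegree_lt_card_of_eval_eq _ _ (ι_injective k p)
  · intro j
    rw [eval_finsetSum, eval_one]
    simp only [eval_ePoly]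
    rw [Finset.sum_ite_eq]
    simp
  · rw [ZMod.card, natDegree_one]
    have h1 : (∑ i : ZMod p, ePoly k p i).natDegree ≤ p - 1 :=
      natDegree_sum_le_of_forall_le _ _ fun i _ => natDegree_ePoly_le k p i
    have := hp.out.pos
    rw [max_lt_iff]
    constructor <;> omega

end Poly

section Ring

variable {k : Type u} [Field k] (p : ℕ) [hp : Fact p.Prime] [CharP k p]
  {Rg : Type v} [Ring Rg] [Algebra k Rg]

theorem pow_act (Y w : Rg) (c : k) (h : Y * w = c • w) (n : ℕ) : Y ^ n * w = c ^ n • w := by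
  induction n with
  | zero => simp
  | succ n ih => rw [pow_succ, mul_assoc, h, mul_smul_comm, ih, smul_smul, pow_succ, mul_comm]

theorem aeval_act (Y w : Rg) (c : k) (h : Y * w = c • w) (q : k[X]) :
    aeval Y q * w = eval c q • w := by
  rw [aeval_eq_sum_range, eval_eq_sum_range, Finset.sum_mul, Finset.sum_smul]
  refine Finset.sum_congr rfl fun i _ => ?_
  rw [smul_mul_assoc, pow_act Y w c h, smul_smul]

/-- the idempotents -/
noncomputable def e (Y : Rg) (i : ZMod p) : Rg := aeval Y (ePoly k p i)

theorem e_eq (Y : Rg) (i : ZMod p) :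
    e (k := k) p Y i = 1 - (Y - algebraMap k Rg (ι k p i)) ^ (p - 1) := by
  unfold e ePoly
  simp

theorem sum_e (Y : Rg) : ∑ i : ZMod p, e (k := k) p Y i = 1 := by
  unfold e
  rw [← map_sum, sum_ePoly, map_one]

theorem e_act (Y w : Rg) (j : ZMod p) (h : Y * w = ι k p j • w) (i : ZMod p) :
    e (k := k) p Y i * w = if j = i then w else 0 := by
  unfold e
  rw [aeval_act Y w _ h, eval_ePoly]
  split_ifs <;> simp

variable [CharP Rg p]

theorem mul_e (Y : Rg) (hY : Y ^ p = Y) (j : ZMod p) :
    Y * e (k := k) p Y j = ι k p j • e (k := k) p Y j := by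
  have h1 : (Y - algebraMap k Rg (ι k p j)) ^ p = Y - algebraMap k Rg (ι k p j) := by
    rw [sub_pow_char_of_commute p (Algebra.commutes' _ _).symm, hY, ← map_pow, ← map_pow, ZMod.pow_card]
  have h2 : (Y - algebraMap k Rg (ι k p j)) * e (k := k) p Y j = 0 := by
    rw [e_eq, mul_sub, mul_one, ← pow_succ']
    have : p - 1 + 1 = p := Nat.sub_add_cancel hp.out.pos
    rw [this, h1, sub_self]
  rw [sub_mul, sub_eq_zero] at h2
  rw [h2, Algebra.smul_def]

theorem e_mul_e (Y : Rg) (hY : Y ^ p = Y) (i j : ZMod p) :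
    e (k := k) p Y i * e (k := k) p Y j = if j = i then e (k := k) p Y j else 0 :=
  e_act p Y _ j (mul_e p Y hY j) i

end Ring

end Groth.Agent.Lib.Helper6.HopfFin.Mu
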