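import Groth.Agent.Lib.Helper6.HopfFin.GenMap
import Groth.Agent.Lib.Helper6.HopfFin.MuIdem
import Groth.Prelude.Def_Versch

set_option linter.unusedSectionVars false
set_option linter.unusedVariables false
set_option linter.unusedSimpArgs false
set_option autoImplicit false
set_option linter.style.haveILetI false
set_option maxHeartbeats 400000

/-!
# A nonzero primitive `y` with `y^p = y` gives a surjection onto the Hopf algebra of μ_p (helper6)
-/

universe u v w

open TensorProduct Coalgebra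

namespace Groth.Agent.Lib.Helper6.HopfFin

section Abstract

theorem eq_sum_of_act {Rg : Type*} [Ring Rg] {ι : Type*} [Fintype ι] (w : ι → ι → Rg) (P : ι → ι → Prop)
    [∀ j l, Decidable (P j l)] (E : Rg) (hsum : (1 : Rg) = ∑ j, ∑ l, w j l)
    (hact : ∀ j l, E * w j l = if P j l then w j l else 0) :
    E = ∑ j, ∑ l, if P j l then w j l else 0 := by
  calc E = E * 1 := (mul_one E).symm
    _ = E * ∑ j, ∑ l, w j l := by rw [← hsum]
    _ = ∑ j, ∑ l, E * w j l := by
      rw [Finset.mul_sum]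
      refine Finset.sum_congr rfl fun j _ => ?_
      rw [Finset.mul_sum]
    _ = _ := Finset.sum_congr rfl fun j _ => Finset.sum_congr rfl fun l _ => hact j l

end Abstract

section Mu

variable {k : Type u} [Field k] (p : ℕ) [hp : Fact p.Prime] [CharP k p]
  {A : Type v} [CommRing A] [HopfAlgebra k A] [Module.Finite k A]
  (y : CartDual.D k A)

local notation "𝔇" => CartDual.D k A

/-- the idempotents of `y` in the dual -/
noncomputable def eμ (i : ZMod p) : 𝔇 := Mu.e (k := k) p y i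

theorem sum_eμ : ∑ i : ZMod p, eμ p y i = 1 := Mu.sum_e p y

theorem eμ_mul_eμ (hyp : y ^ p = y) (i j : ZMod p) :
    eμ p y i * eμ p y j = if j = i then eμ p y j else 0 := Mu.e_mul_e p y hyp i j

theorem y_mul_eμ (hyp : y ^ p = y) (j : ZMod p) : y * eμ p y j = Mu.ι k p j • eμ p y j :=
  Mu.mul_e p y hyp j

/-- `Δ y` acts on `e_j ⊗ e_l` by the scalar `j + l`. -/
theorem comul_y_act (hy : IsPrim y) (hyp : y ^ p = y) (j l : ZMod p) :
    Coalgebra.comul (R := k) y * (eμ p y j ⊗ₜ[k] eμ p y l) =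
      Mu.ι k p (j + l) • (eμ p y j ⊗ₜ[k] eμ p y l) := by
  rw [(isPrim_iff_comul y).1 hy]
  have h1 : (y ⊗ₜ[k] (1 : 𝔇) + (1 : 𝔇) ⊗ₜ[k] y) * (eμ p y j ⊗ₜ[k] eμ p y l) =
      (y * eμ p y j) ⊗ₜ[k] eμ p y l + eμ p y j ⊗ₜ[k] (y * eμ p y l) := by
    have e1 : (y ⊗ₜ[k] (1 : 𝔇)) * (eμ p y j ⊗ₜ[k] eμ p y l) = (y * eμ p y j) ⊗ₜ[k] eμ p y l := by
      rw [Algebra.TensorProduct.tmul_mul_tmul, one_mul]
    have e2 : ((1 : 𝔇) ⊗ₜ[k] y) * (eμ p y j ⊗ₜ[k] eμ p y l) = eμ p y j ⊗ₜ[k] (y * eμ p y l) := by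
      rw [Algebra.TensorProduct.tmul_mul_tmul, one_mul]
    rw [← e1, ← e2]
    exact add_mul _ _ _
  rw [h1, y_mul_eμ p y hyp, y_mul_eμ p y hyp, ← TensorProduct.smul_tmul', TensorProduct.tmul_smul,
    ← add_smul, ← map_add]

theorem comul_eμ (hy : IsPrim y) (hyp : y ^ p = y) (i : ZMod p) :
    Coalgebra.comul (R := k) (eμ p y i) =
      ∑ j : ZMod p, ∑ l : ZMod p, if j + l = i then eμ p y j ⊗ₜ[k] eμ p y l else 0 := by
  have h1 : Coalgebra.comul (R := k) (eμ p y i) =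
      Mu.e (k := k) p (Coalgebra.comul (R := k) y) i := by
    unfold eμ Mu.e
    exact (Polynomial.aeval_algHom_apply (Bialgebra.comulAlgHom k 𝔇) y _).symm
  have h2 : (1 : 𝔇 ⊗[k] 𝔇) = ∑ j : ZMod p, ∑ l : ZMod p, eμ p y j ⊗ₜ[k] eμ p y l := by
    rw [Algebra.TensorProduct.one_def, ← sum_eμ p y, TensorProduct.sum_tmul]
    refine Finset.sum_congr rfl fun j _ => ?_
    rw [TensorProduct.tmul_sum]
  refine eq_sum_of_act (Rg := 𝔇 ⊗[k] 𝔇) (fun j l => eμ p y j ⊗ₜ[k] eμ p y l) (fun j l => j + l = i)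
    _ h2 fun j l => ?_
  rw [h1]
  exact Mu.e_act p _ _ (j + l) (comul_y_act p y hy hyp j l) i

theorem eμ_apply_mul (hy : IsPrim y) (hyp : y ^ p = y) (i : ZMod p) (a b : A) :
    eμ p y i (a * b) =
      ∑ j : ZMod p, ∑ l : ZMod p, if j + l = i then eμ p y j a * eμ p y l b else 0 := by
  have h := congrArg (fun t => CartDual.ev₂ k A t (a ⊗ₜ b)) (comul_eμ p y hy hyp i)
  simp only [CartDual.comul_def, CartDual.ev₂_comul_tmul, map_sum, LinearMap.sum_apply] at h
  rw [h]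
  refine Finset.sum_congr rfl fun j _ => Finset.sum_congr rfl fun l _ => ?_
  split_ifs
  · rw [CartDual.ev₂_tmul]
  · simp

/-- group elements of `k[ℤ/p]` -/
noncomputable def Zμ (k : Type u) [Field k] (p : ℕ) (i : ZMod p) : MonoidAlgebra k (Multiplicative (ZMod p)) :=
  MonoidAlgebra.single (Multiplicative.ofAdd i) (1 : k)

theorem Zμ_mul (i j : ZMod p) : Zμ k p i * Zμ k p j = Zμ k p (i + j) := by
  unfold Zμ
  rw [MonoidAlgebra.single_mul_single, mul_one, ← ofAdd_add]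

theorem Zμ_zero : Zμ k p 0 = 1 := by
  unfold Zμ
  rw [ofAdd_zero]
  rfl

/-- the map to `k[ℤ/p]` as a linear map -/
noncomputable def fμ : A →ₗ[k] MonoidAlgebra k (Multiplicative (ZMod p)) :=
  gmap Finset.univ (eμ p y) (Zμ k p)

theorem fμ_apply (a : A) : fμ p y a = ∑ i : ZMod p, eμ p y i a • Zμ k p i := gmap_apply _ _ _ a

theorem fμ_mul (hy : IsPrim y) (hyp : y ^ p = y) (a b : A) : fμ p y (a * b) = fμ p y a * fμ p y b := by
  rw [fμ_apply, fμ_apply, fμ_apply, Finset.sum_mul_sum]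
  have h1 : ∀ i : ZMod p, eμ p y i (a * b) • Zμ k p i =
      ∑ j : ZMod p, ∑ l : ZMod p, if j + l = i then (eμ p y j a * eμ p y l b) • Zμ k p (j + l) else 0 := by
    intro i
    rw [eμ_apply_mul p y hy hyp, Finset.sum_smul]
    refine Finset.sum_congr rfl fun j _ => ?_
    rw [Finset.sum_smul]
    refine Finset.sum_congr rfl fun l _ => ?_
    split_ifs with h
    · rw [h]
    · rw [zero_smul]
  rw [Finset.sum_congr rfl fun i _ => h1 i, Finset.sum_comm]
  refine Finset.sum_congr rfl fun j _ => ?_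
  rw [Finset.sum_comm]
  refine Finset.sum_congr rfl fun l _ => ?_
  rw [Finset.sum_ite_eq, if_pos (Finset.mem_univ _), smul_mul_smul_comm, Zμ_mul]

theorem eμ_apply_one (hy : IsPrim y) (i : ZMod p) : eμ p y i 1 = if i = 0 then 1 else 0 := by
  have h1 : eμ p y i 1 = Bialgebra.counitAlgHom k 𝔇 (eμ p y i) := rfl
  have h2 : Bialgebra.counitAlgHom k 𝔇 y = 0 := hy.apply_one
  rw [h1]
  unfold eμ Mu.e
  rw [← Polynomial.aeval_algHom_apply, h2, Polynomial.aeval_def, Polynomial.eval₂_at_zero]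
  have h3 : (Mu.ePoly k p i).coeff 0 = Polynomial.eval (Mu.ι k p 0) (Mu.ePoly k p i) := by
    rw [map_zero, Polynomial.coeff_zero_eq_eval_zero]
  rw [h3, Mu.eval_ePoly]
  simp [eq_comm]

theorem fμ_one (hy : IsPrim y) : fμ p y 1 = 1 := by
  rw [fμ_apply]
  simp only [eμ_apply_one p y hy]
  rw [Finset.sum_eq_single 0]
  · rw [if_pos rfl, one_smul, Zμ_zero]
  · intro i _ hi
    rw [if_neg hi, zero_smul]
  · intro h; exact absurd (Finset.mem_univ _) h

/-- the map to `k[ℤ/p]` as an algebra map -/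
noncomputable def fμAlg (hy : IsPrim y) (hyp : y ^ p = y) : A →ₐ[k] MonoidAlgebra k (Multiplicative (ZMod p)) :=
  AlgHom.ofLinearMap (fμ p y) (fμ_one p y hy) (fμ_mul p y hy hyp)

theorem counit_fμ (a : A) : Coalgebra.counit (R := k) (fμ p y a) = Coalgebra.counit (R := k) a := by
  rw [fμ_apply, map_sum]
  have h1 : ∀ i : ZMod p, Coalgebra.counit (R := k) (eμ p y i a • Zμ k p i) = eμ p y i a := by
    intro i
    rw [map_smul]
    unfold Zμ
    rw [MonoidAlgebra.counit_single]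
    simp
  rw [Finset.sum_congr rfl fun i _ => h1 i]
  have h2 : (∑ i : ZMod p, eμ p y i) a = (1 : 𝔇) a := congrArg (fun x : 𝔇 => x a) (sum_eμ p y)
  rw [dual_one_apply] at h2
  rw [← h2, CartDual.coe_apply, WithConv.ofConv_sum, LinearMap.sum_apply]

theorem comul_Zμ (i : ZMod p) : Coalgebra.comul (R := k) (Zμ k p i) = Zμ k p i ⊗ₜ[k] Zμ k p i := by
  unfold Zμ
  rw [MonoidAlgebra.comul_single]
  simp

theorem comul_fμ (hyp : y ^ p = y) (a : A) :
    Coalgebra.comul (R := k) (fμ p y a) =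
      TensorProduct.map (fμ p y) (fμ p y) (Coalgebra.comul (R := k) a) := by
  unfold fμ
  rw [map_gmap_comul, gmap_apply, map_sum]
  refine Finset.sum_congr rfl fun j _ => ?_
  rw [map_smul, comul_Zμ, Finset.sum_eq_single j]
  · rw [eμ_mul_eμ p y hyp, if_pos rfl]
  · intro l _ hl
    rw [eμ_mul_eμ p y hyp, if_neg hl]
    exact zero_smul _ _
  · intro h; exact absurd (Finset.mem_univ _) h

/-- the bialgebra map to `k[ℤ/p]` -/
noncomputable def fμBi (hy : IsPrim y) (hyp : y ^ p = y) :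
    A →ₐc[k] MonoidAlgebra k (Multiplicative (ZMod p)) :=
  BialgHom.ofAlgHom (fμAlg p y hy hyp)
    (AlgHom.ext fun a => counit_fμ p y a)
    (AlgHom.ext fun a => (comul_fμ p y hyp a).symm)

theorem fμBi_apply (hy : IsPrim y) (hyp : y ^ p = y) (a : A) : fμBi p y hy hyp a = fμ p y a := rfl

theorem y_eq_sum (hyp : y ^ p = y) : y = ∑ j : ZMod p, Mu.ι k p j • eμ p y j := by
  conv_lhs => rw [← mul_one y, ← sum_eμ p y, Finset.mul_sum]
  exact Finset.sum_congr rfl fun j _ => y_mul_eμ p y hyp j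

theorem Zμ_nsmul (g : ZMod p) (n : ℕ) : Zμ k p g ^ n = Zμ k p (n • g) := by
  induction n with
  | zero => rw [pow_zero, zero_smul, Zμ_zero]
  | succ n ih => rw [pow_succ, ih, Zμ_mul, succ_nsmul]

theorem fμBi_surjective (hy : IsPrim y) (hyp : y ^ p = y) (hy0 : y ≠ 0) :
    Function.Surjective (fμBi p y hy hyp) := by
  classical
  haveI : NeZero p := ⟨hp.out.ne_zero⟩
  -- some `e_g ≠ 0` with `g ≠ 0`
  have hex : ∃ g : ZMod p, g ≠ 0 ∧ eμ p y g ≠ 0 := by
    by_contra h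
    push Not at h
    apply hy0
    rw [y_eq_sum p y hyp]
    refine Finset.sum_eq_zero fun j _ => ?_
    by_cases hj : j = 0
    · rw [hj, map_zero, zero_smul]
    · rw [h j hj, smul_zero]
  obtain ⟨g, hg0, hg⟩ := hex
  have hex2 : ∃ a₀ : A, eμ p y g a₀ ≠ 0 := by
    by_contra h
    push Not at h
    apply hg
    apply WithConv.ofConv_injective
    apply LinearMap.ext
    intro a
    exact h a
  obtain ⟨a₀, ha₀⟩ := hex2
  have h1 : fμ p y (L (eμ p y g) a₀) = eμ p y g a₀ • Zμ k p g := by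
    rw [fμ_apply, Finset.sum_eq_single g]
    · rw [apply_L, eμ_mul_eμ p y hyp, if_pos rfl]
    · intro i _ hi
      rw [apply_L, eμ_mul_eμ p y hyp, if_neg hi]
      exact zero_smul _ _
    · intro h; exact absurd (Finset.mem_univ _) h
  have hZg : Zμ k p g ∈ (fμAlg p y hy hyp).range := by
    have h2 : Zμ k p g = (eμ p y g a₀)⁻¹ • fμ p y (L (eμ p y g) a₀) := by
      rw [h1, smul_smul, inv_mul_cancel₀ ha₀, one_smul]
    rw [h2]
    have h4 : fμ p y (L (eμ p y g) a₀) ∈ (fμAlg p y hy hyp).range := ⟨L (eμ p y g) a₀, rfl⟩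
    exact Subalgebra.smul_mem _ h4 _
  have hZ : ∀ h : ZMod p, Zμ k p h ∈ (fμAlg p y hy hyp).range := by
    intro h
    have h3 : h = (h * g⁻¹).val • g := by
      rw [nsmul_eq_mul, ZMod.natCast_zmod_val, mul_assoc, inv_mul_cancel₀ hg0, mul_one]
    rw [h3, ← Zμ_nsmul]
    exact Subalgebra.pow_mem _ hZg _
  have htop : (fμAlg p y hy hyp).range = ⊤ := by
    rw [eq_top_iff]
    intro v _
    induction v using MonoidAlgebra.induction_on with
    | of m =>
      have : MonoidAlgebra.of k (Multiplicative (ZMod p)) m = Zμ k p (Multiplicative.toAdd m) := rfl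
      rw [this]
      exact hZ _
    | add x y hx hy' => exact Subalgebra.add_mem _ (hx trivial) (hy' trivial)
    | smul r x hx => exact Subalgebra.smul_mem _ (hx trivial) r
  intro v
  have : v ∈ (fμAlg p y hy hyp).range := by rw [htop]; trivial
  obtain ⟨b, hb⟩ := this
  exact ⟨b, hb⟩

end Mu

end Groth.Agent.Lib.Helper6.HopfFin
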