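import Groth.Agent.Lib.Helper6.HopfFin.AlphaMap
import Groth.Agent.Lib.Helper6.HopfFin.MuMap
import Groth.Agent.Lib.Helper6.HopfFin.Fixed

set_option linter.unusedSectionVars false
set_option linter.unusedVariables false
set_option linter.unusedSimpArgs false
set_option autoImplicit false
set_option linter.style.haveILetI false
set_option maxHeartbeats 400000

/-!
# A non-reduced finite group scheme over an algebraically closed field contains μ_p or α_p (helper6)
-/

universe u v

namespace Groth.Agent.Lib.Helper6.HopfFin

theorem exists_mu_or_alpha (k : Type u) [Field k] [IsAlgClosed k]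
    (p : ℕ) [hp : Fact p.Prime] [CharP k p] (A : Type v) [CommRing A] [HopfAlgebra k A] [Module.Finite k A]
    (hA : ¬ IsReduced A) :
    (∃ f : A →ₐc[k] MonoidAlgebra k (Multiplicative (ZMod p)), Function.Surjective f) ∨
      (∃ f : A →ₐc[k] AlphaP.A p k, Function.Surjective f) := by
  obtain ⟨x, hx, hx0⟩ := exists_prim_of_not_isReduced (k := k) hA
  obtain ⟨m, a, hv0, hv⟩ := Fixed.exists_comb (k := k) p x hx0
  have hprim : IsPrim (Fixed.comb p x m a) := by
    unfold Fixed.comb
    exact IsPrim.sum _ _ fun i _ => (hx.pow_p_pow p i).smul (a i)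
  rcases hv with hv | hv
  · exact Or.inr ⟨fαBi p _ hprim hv, fαBi_surjective p _ hprim hv hv0⟩
  · exact Or.inl ⟨fμBi p _ hprim hv, fμBi_surjective p _ hprim hv hv0⟩

end Groth.Agent.Lib.Helper6.HopfFin
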