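import Groth.Agent.Lib.Helper6.HopfFin.Reduced

set_option linter.unusedSectionVars false
set_option linter.unusedVariables false
set_option linter.unusedSimpArgs false
set_option autoImplicit false
set_option linter.style.haveILetI false
set_option maxHeartbeats 400000

/-!
# Primitive elements of the dual of a finite commutative Hopf algebra (helper6)
-/

universe u v

open TensorProduct Coalgebra

namespace Groth.Agent.Lib.Helper6.HopfFin

section Prim

variable {k : Type u} [Field k] {A : Type v} [CommRing A] [HopfAlgebra k A]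

/-- primitive functionals (point derivations at the unit). -/
def IsPrim (x : CartDual.D k A) : Prop :=
  ∀ a b : A, x (a * b) = Coalgebra.counit (R := k) a * x b + x a * Coalgebra.counit (R := k) b

theorem IsPrim.add {x y : CartDual.D k A} (hx : IsPrim x) (hy : IsPrim y) : IsPrim (x + y) := by
  intro a b
  have e : ∀ c : A, (x + y) c = x c + y c := fun c => rfl
  rw [e, e, e, hx a b, hy a b]; ring

theorem IsPrim.smul {x : CartDual.D k A} (hx : IsPrim x) (c : k) : IsPrim (c • x) := by
  intro a b
  have e : ∀ d : A, (c • x) d = c * x d := fun d => rfl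
  rw [e, e, e, hx a b]; ring

theorem isPrim_zero : IsPrim (0 : CartDual.D k A) := by
  intro a b
  have e : ∀ d : A, (0 : CartDual.D k A) d = 0 := fun d => rfl
  rw [e, e, e]; ring

theorem IsPrim.sum {ι : Type*} (s : Finset ι) (f : ι → CartDual.D k A) (h : ∀ i ∈ s, IsPrim (f i)) :
    IsPrim (∑ i ∈ s, f i) := by
  classical
  induction s using Finset.induction_on with
  | empty => simpa using isPrim_zero
  | insert a s ha ih =>
    rw [Finset.sum_insert ha]
    exact (h a (Finset.mem_insert_self a s)).add (ih fun i hi => h i (Finset.mem_insert_of_mem hi))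

theorem IsPrim.apply_one {x : CartDual.D k A} (hx : IsPrim x) : x 1 = 0 := by
  have h := hx 1 1
  have h1 : Coalgebra.counit (R := k) (1 : A) = 1 := Bialgebra.counit_one
  rw [mul_one, h1, one_mul, mul_one] at h
  linear_combination -h

variable [IsAlgClosed k] [Module.Finite k A]

theorem exists_prim_of_not_isReduced (hA : ¬ IsReduced A) :
    ∃ x : CartDual.D k A, IsPrim x ∧ x ≠ 0 := by
  classical
  set I := RingHom.ker (Bialgebra.counitAlgHom k A) with hI
  have h1 : ¬ IsIdempotentElem I := fun h => hA (isReduced_of_aug_idempotent h)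
  have h2 : ∃ a₀ ∈ I, a₀ ∉ I * I := by
    by_contra hcon
    push Not at hcon
    exact h1 (le_antisymm Ideal.mul_le_right hcon)
  obtain ⟨a₀, ha₀, ha₀'⟩ := h2
  let W : Submodule k A := Submodule.span k {(1 : A)} ⊔ (I * I).restrictScalars k
  have hW : a₀ ∉ W := by
    intro h
    obtain ⟨w, hw, b, hb, hwb⟩ := Submodule.mem_sup.1 h
    obtain ⟨c, rfl⟩ := Submodule.mem_span_singleton.1 hw
    have hb' : b ∈ I * I := hb
    have hbI : b ∈ I := Ideal.mul_le_right hb'
    have h3 := congrArg (Bialgebra.counitAlgHom k A) hwb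
    rw [map_add, map_smul, map_one, (RingHom.mem_ker).1 hbI, (RingHom.mem_ker).1 ha₀, add_zero,
      smul_eq_mul, mul_one] at h3
    rw [h3, zero_smul, zero_add] at hwb
    exact ha₀' (hwb ▸ hb')
  obtain ⟨f, hf, hfW⟩ := Submodule.exists_dual_map_eq_bot_of_notMem hW inferInstance
  have hfW' : ∀ w ∈ W, f w = 0 := by
    intro w hw
    have : f w ∈ W.map f := Submodule.mem_map_of_mem hw
    rw [hfW] at this
    exact this
  have hf1 : f 1 = 0 := hfW' 1 (Submodule.mem_sup_left (Submodule.mem_span_singleton_self 1))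
  have hfI : ∀ b ∈ I * I, f b = 0 := fun b hb => hfW' b (Submodule.mem_sup_right hb)
  refine ⟨WithConv.toConv f, ?_, ?_⟩
  · intro a b
    change f (a * b) = Coalgebra.counit (R := k) a * f b + f a * Coalgebra.counit (R := k) b
    set α := Coalgebra.counit (R := k) a with hα
    set β := Coalgebra.counit (R := k) b with hβ
    have haI : a - algebraMap k A α ∈ I := by
      rw [hI, RingHom.mem_ker, map_sub, AlgHom.commutes]
      exact sub_self _
    have hbI : b - algebraMap k A β ∈ I := by
      rw [hI, RingHom.mem_ker, map_sub, AlgHom.commutes]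
      exact sub_self _
    have h4 : f ((a - algebraMap k A α) * (b - algebraMap k A β)) = 0 :=
      hfI _ (Ideal.mul_mem_mul haI hbI)
    have h5 : (a - algebraMap k A α) * (b - algebraMap k A β) =
        a * b - α • b - β • a + (α * β) • (1 : A) := by
      rw [Algebra.smul_def, Algebra.smul_def, Algebra.smul_def, map_mul]; ring
    rw [h5, map_add, map_sub, map_sub, map_smul, map_smul, map_smul, hf1, smul_zero, add_zero,
      smul_eq_mul, smul_eq_mul] at h4
    linear_combination h4
  · intro h0
    apply hf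
    have := congrArg (fun x : CartDual.D k A => x a₀) h0
    exact this

end Prim

section Comul

variable {k : Type u} [Field k] {A : Type v} [CommRing A] [HopfAlgebra k A] [Module.Finite k A]

theorem dual_one_apply (b : A) : (1 : CartDual.D k A) b = Coalgebra.counit (R := k) b := by
  rw [LinearMap.convOne_apply]; rfl

theorem isPrim_iff_comul (x : CartDual.D k A) :
    IsPrim x ↔ Coalgebra.comul (R := k) x = x ⊗ₜ[k] (1 : CartDual.D k A) + (1 : CartDual.D k A) ⊗ₜ[k] x := by
  constructor
  · intro hx
    apply (CartDual.ev₂ k A).injective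
    apply TensorProduct.ext'
    intro a b
    rw [CartDual.comul_def, CartDual.ev₂_comul_tmul, map_add, LinearMap.add_apply, CartDual.ev₂_tmul,
      CartDual.ev₂_tmul, dual_one_apply, dual_one_apply, hx a b]
    ring
  · intro hx a b
    have h := congrArg (fun t => CartDual.ev₂ k A t (a ⊗ₜ b)) hx
    simp only [CartDual.comul_def, CartDual.ev₂_comul_tmul, map_add, LinearMap.add_apply,
      CartDual.ev₂_tmul, dual_one_apply] at h
    rw [h]; ring

theorem commute_tmul_one_one_tmul (x y : CartDual.D k A) :
    Commute (x ⊗ₜ[k] (1 : CartDual.D k A)) ((1 : CartDual.D k A) ⊗ₜ[k] y) := by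
  change _ * _ = _ * _
  rw [Algebra.TensorProduct.tmul_mul_tmul, Algebra.TensorProduct.tmul_mul_tmul, one_mul, mul_one,
    one_mul, mul_one]

theorem comul_pow_of_isPrim {x : CartDual.D k A} (hx : IsPrim x) (n : ℕ) :
    Coalgebra.comul (R := k) (x ^ n) =
      ∑ m ∈ Finset.HasAntidiagonal.antidiagonal n, n.choose m.1 • ((x ^ m.1) ⊗ₜ[k] (x ^ m.2)) := by
  rw [Bialgebra.comul_pow, (isPrim_iff_comul x).1 hx,
    Commute.add_pow' (R := CartDual.D k A ⊗[k] CartDual.D k A) (commute_tmul_one_one_tmul x x)]
  refine Finset.sum_congr rfl fun m _ => ?_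
  rw [Algebra.TensorProduct.tmul_pow, Algebra.TensorProduct.tmul_pow, one_pow, one_pow,
    Algebra.TensorProduct.tmul_mul_tmul, one_mul, mul_one]

theorem pow_apply_mul {x : CartDual.D k A} (hx : IsPrim x) (n : ℕ) (a b : A) :
    (x ^ n) (a * b) = ∑ m ∈ Finset.HasAntidiagonal.antidiagonal n, (n.choose m.1 : k) * ((x ^ m.1) a * (x ^ m.2) b) := by
  have h := congrArg (fun t => CartDual.ev₂ k A t (a ⊗ₜ b)) (comul_pow_of_isPrim hx n)
  simp only [CartDual.comul_def, CartDual.ev₂_comul_tmul, map_sum, LinearMap.sum_apply, map_nsmul,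
    LinearMap.smul_apply, CartDual.ev₂_tmul, nsmul_eq_mul] at h
  exact h

variable (p : ℕ) [hp : Fact p.Prime] [CharP k p]

theorem natCast_tensor_eq_zero : ((p : ℕ) : CartDual.D k A ⊗[k] CartDual.D k A) = 0 := by
  rw [← map_natCast (algebraMap k (CartDual.D k A ⊗[k] CartDual.D k A)) p, CharP.cast_eq_zero, map_zero]

theorem IsPrim.pow_p {x : CartDual.D k A} (hx : IsPrim x) : IsPrim (x ^ p) := by
  rw [isPrim_iff_comul, Bialgebra.comul_pow, (isPrim_iff_comul x).1 hx]
  obtain ⟨r, hr⟩ := Commute.exists_add_pow_prime_eq (R := CartDual.D k A ⊗[k] CartDual.D k A) hp.out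
    (commute_tmul_one_one_tmul x x)
  have hz : (p : CartDual.D k A ⊗[k] CartDual.D k A) * x ⊗ₜ[k] (1 : CartDual.D k A) *
      (1 : CartDual.D k A) ⊗ₜ[k] x * r = 0 := by
    rw [natCast_tensor_eq_zero p]
    exact (congrArg (· * r) ((congrArg (· * _) (zero_mul _)).trans (zero_mul _))).trans (zero_mul _)
  rw [hr, hz, add_zero]
  simp only [Algebra.TensorProduct.tmul_pow, one_pow]

theorem IsPrim.pow_p_pow {x : CartDual.D k A} (hx : IsPrim x) (i : ℕ) : IsPrim (x ^ p ^ i) := by
  induction i with
  | zero => simpa using hx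
  | succ i ih =>
    rw [pow_succ, pow_mul]
    exact ih.pow_p p

end Comul

end Groth.Agent.Lib.Helper6.HopfFin
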