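import Groth.Agent.Lib.Helper6.HopfFin.Act

set_option linter.unusedSectionVars false
set_option linter.unusedVariables false
set_option linter.unusedSimpArgs false
set_option autoImplicit false
set_option linter.style.haveILetI false
set_option maxHeartbeats 400000

/-!
# A finite group scheme over an algebraically closed field with `I = I²` is reduced (helper6)
-/

universe u v

open TensorProduct Coalgebra

namespace Groth.Agent.Lib.Helper6.HopfFin

section Reduced

variable {k : Type u} [Field k] [IsAlgClosed k] {A : Type v} [CommRing A] [HopfAlgebra k A]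
  [Module.Finite k A]

/-- a `k`-point with prescribed maximal ideal as kernel -/
theorem exists_point_of_maximal (m : Ideal A) [hm : m.IsMaximal] :
    ∃ g : A →ₐ[k] k, ∀ a, g a = 0 ↔ a ∈ m := by
  letI : Field (A ⧸ m) := Ideal.Quotient.field m
  haveI : Module.Finite k (A ⧸ m) :=
    Module.Finite.of_surjective (Ideal.Quotient.mkₐ k m).toLinearMap Ideal.Quotient.mk_surjective
  have hbij : Function.Bijective (algebraMap k (A ⧸ m)) :=
    IsAlgClosed.algebraMap_bijective_of_isIntegral
  let e : k ≃ₐ[k] (A ⧸ m) := AlgEquiv.ofBijective (Algebra.ofId k (A ⧸ m)) hbij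
  refine ⟨(e.symm : (A ⧸ m) →ₐ[k] k).comp (Ideal.Quotient.mkₐ k m), fun a => ?_⟩
  change e.symm (Ideal.Quotient.mk m a) = 0 ↔ _
  rw [map_eq_zero_iff _ e.symm.injective, Ideal.Quotient.eq_zero_iff_mem]

theorem counit_eq_zero_of_isNilpotent (b : A) (hb : IsNilpotent b) :
    Coalgebra.counit (R := k) b = 0 := by
  have h1 : IsNilpotent (Bialgebra.counitAlgHom k A b) := hb.map _
  exact h1.eq_zero

theorem isReduced_of_aug_idempotent
    (hI : IsIdempotentElem (RingHom.ker (Bialgebra.counitAlgHom k A))) : IsReduced A := by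
  haveI : IsNoetherianRing A := IsNoetherianRing.of_finite k A
  obtain ⟨e, he, hIe⟩ := (Ideal.isIdempotentElem_iff_of_fg _ (IsNoetherian.noetherian _)).1 hI
  -- u = 1 - e
  have hεe : Coalgebra.counit (R := k) e = 0 := by
    have : e ∈ RingHom.ker (Bialgebra.counitAlgHom k A) := by
      rw [hIe]; exact Ideal.mem_span_singleton_self e
    exact this
  have hu : ∀ b : A, Coalgebra.counit (R := k) b = 0 → (1 - e) * b = 0 := by
    intro b hb
    have : b ∈ RingHom.ker (Bialgebra.counitAlgHom k A) := hb
    rw [hIe, Ideal.mem_span_singleton'] at this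
    obtain ⟨c, rfl⟩ := this
    have he' : e * e = e := he
    calc (1 - e) * (c * e) = c * (e - e * e) := by ring
      _ = 0 := by rw [he', sub_self, mul_zero]
  constructor
  intro a ha
  by_contra ha0
  let J : Ideal A := LinearMap.ker (LinearMap.mulRight A a)
  have hJ : J ≠ ⊤ := by
    intro h
    have h1 : (1 : A) ∈ J := by rw [h]; trivial
    have h2 : (1 : A) * a = 0 := h1
    rw [one_mul] at h2
    exact ha0 h2
  obtain ⟨m, hm, hJm⟩ := Ideal.exists_le_maximal J hJ
  obtain ⟨g, hg⟩ := exists_point_of_maximal (k := k) m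
  have hb : IsNilpotent (Lalg g a) := ha.map _
  have h1 : (1 - e) * Lalg g a = 0 := hu _ (counit_eq_zero_of_isNilpotent _ hb)
  have h2 := congrArg (Lalg (ptInv g)) h1
  rw [map_mul, Lalg_ptInv_Lalg, map_zero] at h2
  have h3 : Lalg (ptInv g) (1 - e) ∈ J := h2
  have h4 := (hg _).2 (hJm h3)
  rw [apply_Lalg_ptInv, map_sub, hεe, sub_zero] at h4
  have h5 : Coalgebra.counit (R := k) (1 : A) = 1 := Bialgebra.counit_one
  rw [h5] at h4
  exact one_ne_zero h4

end Reduced

end Groth.Agent.Lib.Helper6.HopfFin
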